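import Cfsg.Agent.H107.AltBlk.Basic
import Cfsg.Agent.S2116
import Cfsg.Agent.S0892
import Cfsg.Agent.S0088
import Cfsg.Agent.S0912
import Cfsg.Agent.S2493
import Cfsg.Agent.H95.StemCover
import Cfsg.Agent.H774.DatA
import Cfsg.Agent.H284.StdRed
import Cfsg.Agent.SporadicB.DoubleCoverUnique

/-!
# The exceptional covers of `A₆` and `A₇`, and the reduction to `A_n` and its double cover (S4578, helper107)

* `exc`: the conclusion of S4578 for quasisimple `H` with `H / Z(H) ≅ A_n`, `n = 6, 7` and `3 ∣ |Z(H)|`;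
* `concl_of`: the reduction.
-/

set_option autoImplicit false

namespace Cfsg.Agent.H107.AltBlk

open Subgroup Cfsg
open scoped commutatorElement

universe u v

/-- The Sylow 2-subgroups of a group over `A₆`, `A₇` do not have commutative image. -/
theorem not_comm_image {H : Type*} [Group H] [Finite H] {n : ℕ} (hn : n = 6 ∨ n = 7)
    (f : H →* alternatingGroup (Fin n)) (hf : Function.Surjective f) (P : Sylow 2 H) :
    ¬ ∀ a ∈ P, ∀ b ∈ P, f a * f b = f b * f a := by
  intro hc
  have key : ∃ s t : alternatingGroup (Fin n), s * s = 1 ∧ t * t = 1 ∧ (s * t) ^ 4 = 1 ∧ (s * t) ^ 2 ≠ 1 := by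
    rcases hn with rfl | rfl
    · refine ⟨⟨Equiv.swap 0 1 * Equiv.swap 2 3, ?_⟩, ⟨Equiv.swap 0 2 * Equiv.swap 4 5, ?_⟩, ?_, ?_, ?_, ?_⟩
      · show Equiv.Perm.sign _ = 1
        decide +kernel
      · show Equiv.Perm.sign _ = 1
        decide +kernel
      · apply Subtype.ext; decide +kernel
      · apply Subtype.ext; decide +kernel
      · apply Subtype.ext; decide +kernel
      · intro h; have := congrArg Subtype.val h; revert this; decide +kernel
    · refine ⟨⟨Equiv.swap 0 1 * Equiv.swap 2 3, ?_⟩, ⟨Equiv.swap 0 2 * Equiv.swap 4 5, ?_⟩, ?_, ?_, ?_, ?_⟩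
      · show Equiv.Perm.sign _ = 1
        decide +kernel
      · show Equiv.Perm.sign _ = 1
        decide +kernel
      · apply Subtype.ext; decide +kernel
      · apply Subtype.ext; decide +kernel
      · apply Subtype.ext; decide +kernel
      · intro h; have := congrArg Subtype.val h; revert this; decide +kernel
  obtain ⟨s, t, hs, ht, h4, h2⟩ := key
  have hst : s * t ≠ t * s := by
    intro h
    apply h2
    rw [pow_two]
    calc s * t * (s * t) = s * t * (t * s) := by rw [← h]
      _ = s * (t * t) * s := by group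
      _ = 1 := by rw [ht, mul_one, hs]
  have hord : orderOf (s * t) = 4 := by
    have := orderOf_eq_prime_pow (x := s * t) (p := 2) (n := 1) (by simpa using h2) (by simpa using h4)
    simpa using this
  have hcard := Cfsg.Agent.H68.Dih.card_closure' hs ht hst
  rw [hord] at hcard
  have h2g : IsPGroup 2 ↥(closure ({s, t} : Set (alternatingGroup (Fin n)))) :=
    IsPGroup.of_card (n := 3) (by rw [hcard]; norm_num)
  obtain ⟨Q, hQ⟩ := h2g.exists_le_sylow
  obtain ⟨P', hP'⟩ := Sylow.mapSurjective_surjective hf 2 Q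
  obtain ⟨g, hg⟩ := MulAction.exists_smul_eq H P P'
  have hmem : ∀ x ∈ Q, ∃ a ∈ P, x = f (g * a * g⁻¹) := by
    intro x hx
    rw [← hP', ← hg] at hx
    change x ∈ (((g • P : Sylow 2 H) : Subgroup H).map f) at hx
    obtain ⟨y, hy, rfl⟩ := hx
    obtain ⟨a, ha, rfl⟩ := (Subgroup.mem_smul_pointwise_iff_exists y (MulAut.conj g) (P : Subgroup H)).1 hy
    exact ⟨a, ha, rfl⟩
  obtain ⟨a, ha, hsa⟩ := hmem s (hQ (subset_closure (by simp)))
  obtain ⟨b, hb, htb⟩ := hmem t (hQ (subset_closure (by simp)))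
  apply hst
  have h5 := hc a ha b hb
  rw [hsa, htb, ← map_mul, ← map_mul]
  have e1 : g * a * g⁻¹ * (g * b * g⁻¹) = g * (a * b) * g⁻¹ := by group
  have e2 : g * b * g⁻¹ * (g * a * g⁻¹) = g * (b * a) * g⁻¹ := by group
  have e3 : f (a * b) = f (b * a) := by rw [map_mul, map_mul, h5]
  rw [e1, e2, map_mul, map_mul f g, e3, map_mul f (g * (b * a)), map_mul f g (b * a)]

section
variable {H : Type u} [Group H] [Finite H]

/-- the projection -/
def pr {n : ℕ} (e : H ⧸ center H ≃* alternatingGroup (Fin n)) : H →* alternatingGroup (Fin n) :=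
  e.toMonoidHom.comp (QuotientGroup.mk' (center H))

omit [Finite H] in
theorem pr_surjective {n : ℕ} (e : H ⧸ center H ≃* alternatingGroup (Fin n)) : Function.Surjective (pr e) :=
  e.surjective.comp (QuotientGroup.mk'_surjective _)

omit [Finite H] in
theorem pr_ker {n : ℕ} (e : H ⧸ center H ≃* alternatingGroup (Fin n)) : (pr e).ker = center H := by
  ext x
  rw [MonoidHom.mem_ker]
  change e (x : H ⧸ center H) = 1 ↔ _
  rw [e.map_eq_one_iff, QuotientGroup.eq_one_iff]

omit [Finite H] in
theorem card_eq {n : ℕ} (e : H ⧸ center H ≃* alternatingGroup (Fin n)) :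
    Nat.card H = Nat.card (center H) * Nat.card (alternatingGroup (Fin n)) := by
  rw [← Nat.card_congr e.toEquiv, mul_comm]
  exact card_eq_card_quotient_mul_card_subgroup (center H)

theorem card_alt_dvd {n : ℕ} (hn : n = 6 ∨ n = 7) :
    Nat.card (alternatingGroup (Fin n)) ∣ 2520 := by
  rw [H68.AltMul.card_alt hn]
  rcases hn with rfl | rfl
  · rw [if_pos rfl]; norm_num
  · rw [if_neg (by omega)]; norm_num

omit [Finite H] in
/-- the order of the centre -/
theorem card_center_dvd_six (hq : IsQuasisimple H) {n : ℕ} (hn : n = 6 ∨ n = 7)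
    (e : H ⧸ center H ≃* alternatingGroup (Fin n)) : Nat.card (center H) ∣ 6 := by
  have h := H95.StemCover.card_ker_dvd_cyclic (S2116.result n hn) hq.1.commutator_eq_top (pr e) (pr_surjective e)
    (by rw [pr_ker])
  rwa [pr_ker] at h

/-- `p ≥ 5` -/
theorem exc_five {n : ℕ} (hn : n = 6 ∨ n = 7) (hq : IsQuasisimple H)
    (e : H ⧸ center H ≃* alternatingGroup (Fin n)) {p : ℕ} [hp : Fact p.Prime] (h5 : 5 ≤ p) : Concl p H := by
  apply concl_of_factorization_le
  have h1 : Nat.card H ∣ 6 * 2520 := by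
    rw [card_eq e]
    exact mul_dvd_mul (card_center_dvd_six hq hn e) (card_alt_dvd hn)
  by_contra hcon
  push Not at hcon
  have h2 : p ^ 3 ∣ 6 * 2520 := ((hp.out.pow_dvd_iff_le_factorization Nat.card_pos.ne').2 hcon).trans h1
  have h3 : p ^ 2 ∣ 6 * 2520 := (pow_dvd_pow p (by norm_num)).trans h2
  have h4 : p ^ 3 ≤ 6 * 2520 := Nat.le_of_dvd (by norm_num) h2
  have h6 : p < 25 := by
    by_contra h7
    push Not at h7
    have := Nat.pow_le_pow_left h7 3
    omega
  have hp' := hp.out
  interval_cases p <;> first | omega | exact absurd hp' (by norm_num)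

omit [Finite H] in
/-- a subgroup with the order of a Sylow subgroup -/
theorem coprime_index {p k : ℕ} (hp : p.Prime) (D : Subgroup H) (hD : Nat.card D = p ^ k)
    (h : ¬ p ^ (k + 1) ∣ Nat.card H) : Nat.Coprime (Nat.card D) D.index := by
  rw [hD]
  refine Nat.Coprime.pow_left _ ((Nat.Prime.coprime_iff_not_dvd hp).2 fun hd => h ?_)
  rw [← D.card_mul_index, hD, pow_succ]
  exact mul_dvd_mul_left _ hd

/-- a central element of order `p` lies in `D` -/
theorem exists_central {p : ℕ} [hp : Fact p.Prime] {M : Ideal AlgInt} {B : Set (IrrCharacter H)} {D : Subgroup H}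
    (hM : IsPModular p M) (hB : IsPBlock M B) (hD : IsDefectGroup p M B D) (hd : p ∣ Nat.card (center H)) :
    ∃ z ∈ center H, z ∈ D ∧ orderOf z = p := by
  obtain ⟨z, hz⟩ := exists_prime_orderOf_dvd_card' (G := center H) p hd
  rw [← orderOf_coe] at hz
  refine ⟨z, z.2, ?_, hz⟩
  have hn : (zpowers (z : H)).Normal := by
    refine ⟨fun y hy g => ?_⟩
    have h2 : y ∈ center H := (zpowers_le.mpr z.2) hy
    have h3 : g * y * g⁻¹ = y := by
      rw [mem_center_iff.mp h2 g, mul_inv_cancel_right]
    rwa [h3]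
  have h1 : IsPGroup p (zpowers (z : H)) := IsPGroup.of_card (n := 1) (by rw [Nat.card_zpowers, hz, pow_one])
  have h2 : zpowers (z : H) ≤ pCore p H := le_sSup ⟨hn, h1⟩
  exact S0912.result p M hM B hB D hD (h2 (mem_zpowers _))

/-- a defect group with the order of a Sylow subgroup is not commutative if `p` divides the order of the centre -/
theorem not_comm_of_center (hq : IsQuasisimple H) {p : ℕ} [hp : Fact p.Prime] {M : Ideal AlgInt}
    {B : Set (IrrCharacter H)} {D : Subgroup H}
    (hM : IsPModular p M) (hB : IsPBlock M B) (hD : IsDefectGroup p M B D) (hd : p ∣ Nat.card (center H))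
    (hc : Nat.Coprime (Nat.card D) D.index) : ¬ IsMulCommutative D := by
  intro h
  obtain ⟨z, hz, hzD, ho⟩ := exists_central hM hB hD hd
  have h1 := S0088.result D h hc
  rw [hq.1.commutator_eq_top, inf_top_eq] at h1
  have h2 : z ∈ D ⊓ center H := ⟨hzD, hz⟩
  rw [h1, mem_bot] at h2
  rw [h2, orderOf_one] at ho
  exact hp.out.one_lt.ne ho

/-- `p = 3` -/
theorem exc_three {n : ℕ} (hn : n = 6 ∨ n = 7) (hq : IsQuasisimple H)
    (e : H ⧸ center H ≃* alternatingGroup (Fin n)) (h3 : 3 ∣ Nat.card (center H)) [Fact (Nat.Prime 3)] :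
    Concl 3 H := by
  intro M hM B hB D hD χ hχ
  have h1 : Nat.card H ∣ 6 * 2520 := by
    rw [card_eq e]
    exact mul_dvd_mul (card_center_dvd_six hq hn e) (card_alt_dvd hn)
  have h4 : ¬ 3 ^ 4 ∣ Nat.card H := fun h => by
    have := h.trans h1
    omega
  have h5 := S0908.result 3 M hM B hB D hD
  have hd : blockDefect 3 B ≤ 3 := by
    by_contra hcon
    push Not at hcon
    apply h4
    have h6 := D.card_subgroup_dvd_card
    rw [h5] at h6
    exact (pow_dvd_pow 3 hcon).trans h6
  rcases Nat.lt_or_ge 2 (blockDefect 3 B) with h6 | h6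
  · have h7 : blockDefect 3 B = 3 := by omega
    rw [h7] at h5
    exact good_of_three hM hB hD hχ h7 (not_comm_of_center hq hM hB hD h3
      (coprime_index Nat.prime_three D h5 h4))
  · exact good_of_le_two hM hB hD hχ h6

/-- the commutator argument -/
theorem comm_image {D : Subgroup H} (hD : Nat.card D = 16)
    (hnc : ¬ IsMulCommutative D) (hc : Nat.card (center D) ≠ 2)
    (hu : ∀ x y : H, orderOf x = 2 → orderOf y = 2 → x = y) {z : H} (ho : orderOf z = 2)
    {T : Type*} [Group T] (f : H →* T) (hf : f z = 1) : ∀ a ∈ D, ∀ b ∈ D, f a * f b = f b * f a := by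
  have hfin : Finite D := inferInstance
  have hmul := (center D).card_mul_index
  rw [hD] at hmul
  -- the quotient
  have hcyc : ¬ IsCyclic (D ⧸ center D) := fun h => hnc (isMulCommutative_of_isCyclic_quotient_center_self D)
  have hcard : Nat.card (D ⧸ center D) = 4 := by
    obtain ⟨k, hk0, hk⟩ := IsPGroup.card_center_eq_prime_pow (p := 2) (n := 4) (G := D) (by rw [hD]; norm_num) (by norm_num)
    rw [hk] at hmul
    change (center D).index = 4
    have hk4 : k < 5 := by
      by_contra hcon
      push Not at hcon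
      have := Nat.pow_le_pow_right (n := 2) (by norm_num) hcon
      have h0 : (center D).index ≠ 0 := fun h => by rw [h] at hmul; omega
      have : 2 ^ k * 1 ≤ 2 ^ k * (center D).index := Nat.mul_le_mul_left _ (Nat.one_le_iff_ne_zero.2 h0)
      omega
    interval_cases k
    · rw [hk] at hc; norm_num at hc
    · omega
    · exfalso
      apply hcyc
      have h9 : Nat.card (D ⧸ center D) = 2 := by
        change (center D).index = 2
        omega
      have : Fact (Nat.Prime 2) := ⟨Nat.prime_two⟩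
      exact isCyclic_of_prime_card (p := 2) h9
    · exfalso
      apply hcyc
      have h9 : Nat.card (D ⧸ center D) = 1 := by
        change (center D).index = 1
        omega
      have h10 : Subsingleton (D ⧸ center D) := (Nat.card_eq_one_iff_unique.1 h9).1
      infer_instance
  have : Fact (Nat.Prime 2) := ⟨Nat.prime_two⟩
  have hq4 : IsMulCommutative (D ⧸ center D) :=
    IsPGroup.isMulCommutative_of_card_eq_prime_sq (p := 2) (by rw [hcard]; norm_num)
  have hsq : ∀ x : D, x ^ 2 ∈ center D := by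
    intro x
    rw [← QuotientGroup.eq_one_iff]
    change ((x : D ⧸ center D)) ^ 2 = 1
    have h1 : orderOf (x : D ⧸ center D) ∣ 2 ^ 2 := by
      have := orderOf_dvd_natCard (x : D ⧸ center D)
      rwa [hcard] at this
    obtain ⟨k, hk, hk'⟩ := (Nat.dvd_prime_pow Nat.prime_two).1 h1
    have h3 : k ≤ 1 := by
      by_contra hcon
      apply hcyc
      apply isCyclic_of_orderOf_eq_card (x : D ⧸ center D)
      rw [hk', hcard, show k = 2 by omega]
      norm_num
    apply orderOf_dvd_iff_pow_eq_one.1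
    rw [hk']
    exact (pow_dvd_pow 2 h3).trans (by norm_num)
  intro a ha b hb
  have hcom : (⁅(⟨a, ha⟩ : D), ⟨b, hb⟩⁆ : D) ∈ center D := by
    rw [← QuotientGroup.eq_one_iff]
    change ⁅((⟨a, ha⟩ : D) : D ⧸ center D), ((⟨b, hb⟩ : D) : D ⧸ center D)⁆ = 1
    rw [commutatorElement_eq_one_iff_mul_comm]
    exact hq4.is_comm.comm _ _
  have hcc := mem_center_iff.1 hcom
  have hss := mem_center_iff.1 (hsq ⟨a, ha⟩)
  have h1 : (⁅(⟨a, ha⟩ : D), ⟨b, hb⟩⁆ : D) ^ 2 = 1 := by
    set A : D := ⟨a, ha⟩
    set Bb : D := ⟨b, hb⟩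
    have e1 : ⁅A, Bb⁆ * Bb * A = A * Bb := by rw [commutatorElement_def]; group
    have e2 : A ^ 2 * Bb = ⁅A, Bb⁆ ^ 2 * (Bb * A ^ 2) := by
      calc A ^ 2 * Bb = A * (A * Bb) := by rw [pow_two, mul_assoc]
        _ = A * (⁅A, Bb⁆ * Bb * A) := by rw [e1]
        _ = (A * ⁅A, Bb⁆) * Bb * A := by group
        _ = (⁅A, Bb⁆ * A) * Bb * A := by rw [hcc A]
        _ = ⁅A, Bb⁆ * (A * Bb) * A := by group
        _ = ⁅A, Bb⁆ * (⁅A, Bb⁆ * Bb * A) * A := by rw [e1]
        _ = ⁅A, Bb⁆ ^ 2 * (Bb * A ^ 2) := by simp only [pow_two, mul_assoc]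
    rw [← hss Bb] at e2
    exact mul_eq_right.1 e2.symm
  have h3 : ⁅a, b⁆ = 1 ∨ ⁅a, b⁆ = z := by
    have h4 : ⁅a, b⁆ ^ 2 = 1 := congrArg Subtype.val h1
    by_cases h5 : ⁅a, b⁆ = 1
    · exact Or.inl h5
    · exact Or.inr (hu _ _ (orderOf_eq_prime h4 h5) ho)
  have h4 : f ⁅a, b⁆ = 1 := by
    rcases h3 with h3 | h3 <;> rw [h3]
    · exact map_one f
    · exact hf
  rw [map_commutatorElement, commutatorElement_eq_one_iff_mul_comm] at h4
  exact h4

omit [Finite H] in
theorem pr_center {n : ℕ} (e : H ⧸ center H ≃* alternatingGroup (Fin n)) {z : H} (hz : z ∈ center H) :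
    pr e z = 1 := by
  rw [← pr_ker e] at hz
  exact hz

/-- the only involution -/
theorem unique_involution {n : ℕ} (hn : n = 6 ∨ n = 7) (hq : IsQuasisimple H)
    (e : H ⧸ center H ≃* alternatingGroup (Fin n)) (h2 : 2 ∣ Nat.card (center H)) :
    ∀ x y : H, orderOf x = 2 → orderOf y = 2 → x = y := by
  intro x y hx hy
  have hev : Even (Nat.card (center H)) := even_iff_two_dvd.2 h2
  have hn1 : (oddCore H).Normal := Lib.Cores.pPrimeCore_normal 2
  have hodd : Odd (Nat.card (oddCore H)) := Nat.coprime_two_right.1 (Lib.Cores.pPrimeCore_coprime (G := H) 2)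
  obtain ⟨-, h3⟩ := H284.StdRed.double_cover hq hev (by omega) e
  have ho : ∀ w : H, orderOf w = 2 → orderOf (w : H ⧸ oddCore H) = 2 := by
    intro w hw
    apply orderOf_eq_prime
    · have h5 : w ^ 2 = 1 := by rw [← hw]; exact pow_orderOf_eq_one w
      rw [← QuotientGroup.mk_pow, h5, QuotientGroup.mk_one]
    · intro h4
      rw [QuotientGroup.eq_one_iff] at h4
      have h5 : orderOf w ∣ Nat.card (oddCore H) := orderOf_dvd_natCard _ h4
      rw [hw] at h5
      exact (Nat.not_even_iff_odd.2 hodd) (even_iff_two_dvd.2 h5)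
  have h4 := SporadicB.DoubleCoverUnique.unique_involution (n := n) (by omega) h3 x y (ho x hx) (ho y hy)
  have h5 : x⁻¹ * y ∈ oddCore H := QuotientGroup.eq.1 h4
  have h6 : oddCore H ≤ center H := H284.StdRed.oddCore_le_center hq (H284.StdRed.quasisimple_even hev)
  have h7 := mem_center_iff.1 (h6 h5)
  have hx2 : x ^ 2 = 1 := by rw [← hx]; exact pow_orderOf_eq_one x
  have hy2 : y ^ 2 = 1 := by rw [← hy]; exact pow_orderOf_eq_one y
  have h8 : (x⁻¹ * y) ^ 2 = 1 := by
    have e1 : y = x * (x⁻¹ * y) := by group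
    have e2 : Commute x (x⁻¹ * y) := h7 x
    have e3 : y ^ 2 = x ^ 2 * (x⁻¹ * y) ^ 2 := by
      conv_lhs => rw [e1]
      exact e2.mul_pow 2
    rw [hx2, hy2, one_mul] at e3
    exact e3.symm
  have h9 : orderOf (x⁻¹ * y) ∣ 2 := orderOf_dvd_of_pow_eq_one h8
  have h10 : orderOf (x⁻¹ * y) ∣ Nat.card (oddCore H) := orderOf_dvd_natCard _ h5
  have h11 : orderOf (x⁻¹ * y) ∣ 1 := by
    rw [← Nat.coprime_two_left.2 hodd]
    exact Nat.dvd_gcd h9 h10
  rw [Nat.dvd_one, orderOf_eq_one_iff] at h11
  exact inv_mul_eq_one.1 h11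

/-- `p = 2` -/
theorem exc_two {n : ℕ} (hn : n = 6 ∨ n = 7) (hq : IsQuasisimple H)
    (e : H ⧸ center H ≃* alternatingGroup (Fin n)) [hp : Fact (Nat.Prime 2)] :
    Concl 2 H := by
  intro M hM B hB D hD χ hχ
  have h5 := S0908.result 2 M hM B hB D hD
  have h6 := card_center_dvd_six hq hn e
  have hDp : IsPGroup 2 D := IsPGroup.of_card h5
  have hsyl : ∀ k : ℕ, blockDefect 2 B = k → ¬ 2 ^ (k + 1) ∣ Nat.card H →
      ¬ ∀ a ∈ D, ∀ b ∈ D, pr e a * pr e b = pr e b * pr e a := by
    intro k hk hndvd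
    rw [hk] at h5
    let P : Sylow 2 H := hDp.toSylow (by
      intro hd
      apply hndvd
      rw [← D.card_mul_index, h5, pow_succ]
      exact mul_dvd_mul_left _ hd)
    exact not_comm_image hn (pr e) (pr_surjective e) P
  rcases Nat.lt_or_ge 2 (blockDefect 2 B) with h7 | h7
  swap
  · exact good_of_le_two hM hB hD hχ h7
  by_cases h2 : 2 ∣ Nat.card (center H)
  · -- even centre
    obtain ⟨z, hz, hzD, ho⟩ := exists_central hM hB hD h2
    have hu := unique_involution hn hq e h2
    have h1 : Nat.card H ∣ 6 * 2520 := by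
      rw [card_eq e]
      exact mul_dvd_mul h6 (card_alt_dvd hn)
    have h4 : ¬ 2 ^ 5 ∣ Nat.card H := fun h => by
      have := h.trans h1
      omega
    have hd : blockDefect 2 B ≤ 4 := by
      by_contra hcon
      push Not at hcon
      apply h4
      have h6 := D.card_subgroup_dvd_card
      rw [h5] at h6
      exact (pow_dvd_pow 2 hcon).trans h6
    by_cases hc : IsMulCommutative D
    · refine good_of_isCyclic hM hB hD hχ (H774.isCyclic_of_unique_involution hDp hc.is_comm.comm ?_)
      intro a b ha hb ha1 hb1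
      apply Subtype.ext
      apply hu
      · rw [orderOf_coe]; exact orderOf_eq_prime ha ha1
      · rw [orderOf_coe]; exact orderOf_eq_prime hb hb1
    · rcases Nat.lt_or_ge (blockDefect 2 B) 4 with h8 | h8
      · exact good_of_three hM hB hD hχ (by omega) hc
      · have h9 : blockDefect 2 B = 4 := by omega
        refine good_of_card_center hM hB hD hχ (by omega) ?_
        by_contra hcon
        refine hsyl 4 h9 h4 (comm_image (by rw [h5, h9]; norm_num) hc hcon hu ho (pr e) (pr_center e hz))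
  · -- odd centre
    have h8 : Nat.card (center H) ∣ 3 := by
      have h9 : Nat.Coprime (Nat.card (center H)) 2 := by
        rw [Nat.coprime_comm]
        exact (Nat.Prime.coprime_iff_not_dvd Nat.prime_two).2 h2
      exact h9.dvd_of_dvd_mul_left (show Nat.card (center H) ∣ 2 * 3 by simpa using h6)
    have h1 : Nat.card H ∣ 3 * 2520 := by
      rw [card_eq e]
      exact mul_dvd_mul h8 (card_alt_dvd hn)
    have h4 : ¬ 2 ^ 4 ∣ Nat.card H := fun h => by
      have := h.trans h1
      omega
    have hd : blockDefect 2 B ≤ 3 := by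
      by_contra hcon
      push Not at hcon
      apply h4
      have h6 := D.card_subgroup_dvd_card
      rw [h5] at h6
      exact (pow_dvd_pow 2 hcon).trans h6
    have h9 : blockDefect 2 B = 3 := by omega
    refine good_of_three hM hB hD hχ h9 fun hc => hsyl 3 h9 h4 ?_
    intro a ha b hb
    rw [← map_mul, ← map_mul]
    have h10 : a * b = b * a := congrArg Subtype.val (hc.is_comm.comm ⟨a, ha⟩ ⟨b, hb⟩)
    rw [h10]

/-- **The exceptional covers.** -/
theorem exc {n : ℕ} (hn : n = 6 ∨ n = 7) (hq : IsQuasisimple H)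
    (e : H ⧸ center H ≃* alternatingGroup (Fin n)) (h3 : 3 ∣ Nat.card (center H)) (p : ℕ) [hp : Fact p.Prime] :
    Concl p H := by
  have hp' := hp.out
  rcases Nat.lt_or_ge p 5 with h | h
  · have h2 := hp'.two_le
    interval_cases p
    · exact exc_two hn hq e
    · exact exc_three hn hq e h3
    · exact absurd hp' (by norm_num)
  · exact exc_five hn hq e h

/-- **The reduction.** -/
theorem concl_of (hq : IsQuasisimple H) (n : ℕ) (hn : 5 ≤ n)
    (e : H ⧸ center H ≃* alternatingGroup (Fin n)) (p : ℕ) [hp : Fact p.Prime]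
    (h1 : ∀ q : ℕ, q.Prime → Concl q (alternatingGroup (Fin n)))
    (h2 : ∀ {K : Type u} [Group K] [Finite K] {π : K →* alternatingGroup (Fin n)} {z : K},
      Cfsg.Agent.SporadicRecognition.AltCover.IsCover π z → ∀ q : ℕ, q.Prime → Concl q K) : Concl p H := by
  have hpos : 0 < Nat.card (center H) := Nat.card_pos
  have hcase : Nat.card (center H) = 1 ∨ Nat.card (center H) = 2 ∨
      ((n = 6 ∨ n = 7) ∧ 3 ∣ Nat.card (center H)) := by
    by_cases h67 : n = 6 ∨ n = 7
    · have h6 := card_center_dvd_six hq h67 e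
      have h7 : Nat.card (center H) ≤ 6 := Nat.le_of_dvd (by norm_num) h6
      interval_cases h : Nat.card (center H)
      · exact Or.inl rfl
      · exact Or.inr (Or.inl rfl)
      · exact Or.inr (Or.inr ⟨h67, by norm_num⟩)
      · exact absurd h6 (by norm_num)
      · exact absurd h6 (by norm_num)
      · exact Or.inr (Or.inr ⟨h67, by norm_num⟩)
    · push Not at h67
      have h6 := S0892.result n (by omega) h67.1 h67.2 (center H) le_rfl
        (by rw [hq.1.commutator_eq_top]; exact le_top) e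
      omega
  rcases hcase with h | h | ⟨h, h3⟩
  · have hbij : Function.Bijective (pr e) := by
      refine ⟨?_, pr_surjective e⟩
      rw [← MonoidHom.ker_eq_bot_iff, pr_ker, ← card_eq_one]
      exact h
    exact (h1 p hp.out).of_equiv (MulEquiv.ofBijective (pr e) hbij).symm
  · obtain ⟨π, z, hc, -⟩ := Cfsg.Agent.SporadicRecognition.AltCover.exists_isCover
      (S2493.nonsplit hq.1.commutator_eq_top h e)
    exact h2 hc p hp.out
  · exact exc h hq e h3 p

end

end Cfsg.Agent.H107.AltBlk
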